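import Cfsg.Agent.H291.SolIdx
import Cfsg.Agent.H190.Exc.Main
import Cfsg.Agent.H568.SC.LTwo
import Cfsg.Prelude.Def_CaseTheorems

/-!
# Elements of order 59 of the Monster: the abstract argument (helper568)

`MHyp G`: the facts on the Monster that are used; `MHyp.sc`: the elements of order 59 are self-centralizing.
(The model is `Cfsg.Agent.H291.SCAbs`.)
-/

set_option autoImplicit false

namespace Cfsg.Agent.H568.SC.Abs

open Subgroup Cfsg Cfsg.Agent.H995.CopEngine Cfsg.Agent.H291.SolNorm Cfsg.Agent.OrdDiv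
open scoped Pointwise

universe u

/-- `|M|` -/
abbrev NM : ℕ := 808017424794512875886459904961710757005754368000000000

/-- `2 |B|` -/
abbrev NT : ℕ := 8309562962452852382355161088000000

/-- `t` is an involution which is not a 6-transposition -/
def Big {G : Type u} [Group G] (t : G) : Prop := orderOf t = 2 ∧ ∃ g : G, 6 < orderOf (t * (g * t * g⁻¹))

/-- The facts. -/
structure MHyp (G : Type u) [Group G] : Prop where
  simple : IsSimpleGroup G
  card : Nat.card G = NM
  inv : ∀ t : G, orderOf t = 2 → ¬ 59 ∣ Nat.card (centralizer ({t} : Set G))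
  r29 : ∀ x y : G, orderOf x = 59 → orderOf y = 29 → x * y ≠ y * x
  r47 : ∀ x y : G, orderOf x = 59 → orderOf y = 47 → x * y ≠ y * x
  three : ∀ y : G, orderOf y = 3 → SolIdx 59 (centralizer ({y} : Set G))
  five : ∀ y : G, orderOf y = 5 → SolIdx 59 (centralizer ({y} : Set G))
  seven : ∀ y t t' : G, orderOf y = 7 → Big t → t * y = y * t → 59 ∣ Nat.card (centralizer ({y} : Set G)) →
    orderOf t' = 2 → t' * t = t * t' → t' * y = y * t' → t' = t
  big : ∀ q : ℕ, q.Prime → 7 < q → q ∣ NM → ∀ t y w : G, Big t → orderOf y = q → orderOf w = 5 → y * t = t * y →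
    w * t = t * w → w * y ≠ y * w
  tr : ∃ D : Set G, D.Nonempty ∧ (∀ d ∈ D, ∀ g : G, g * d * g⁻¹ ∈ D) ∧ (∀ d ∈ D, orderOf d = 2) ∧
    (∀ d ∈ D, ∀ e ∈ D, orderOf (d * e) ≤ 6) ∧
    ∀ d ∈ D, Nat.card (centralizer ({d} : Set G)) = NT

theorem p59 : Nat.Prime 59 := by norm_num

theorem sq59 : ¬ 59 ^ 2 ∣ NM := by norm_num

/-- the prime divisors -/
theorem prime_list {p : ℕ} (hp : p.Prime) (h : p ∣ NM) :
    p ∈ ([2, 3, 5, 7, 11, 13, 17, 19, 23, 29, 31, 41, 47, 59, 71] : List ℕ) := by
  have e1 : NM = 2 ^ 46 * (3 ^ 20 * (5 ^ 9 * (7 ^ 6 * (11 ^ 2 * (13 ^ 3 * (17 * (19 * (23 * (29 * (31 * (41 * (47 *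
    (59 * 71))))))))))))) := by norm_num
  rw [e1] at h
  have key : ∀ {q k : ℕ}, q.Prime → p ∣ q ^ k → p = q := fun hq h1 =>
    (Nat.prime_dvd_prime_iff_eq hp hq).1 (hp.dvd_of_dvd_pow h1)
  have key1 : ∀ {q : ℕ}, q.Prime → p ∣ q → p = q := fun hq h1 => (Nat.prime_dvd_prime_iff_eq hp hq).1 h1
  rcases hp.dvd_mul.1 h with h | h
  · have := key Nat.prime_two h; subst this; simp
  rcases hp.dvd_mul.1 h with h | h
  · have := key Nat.prime_three h; subst this; simp
  rcases hp.dvd_mul.1 h with h | h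
  · have := key (by norm_num) h; subst this; simp
  rcases hp.dvd_mul.1 h with h | h
  · have := key (by norm_num) h; subst this; simp
  rcases hp.dvd_mul.1 h with h | h
  · have := key (by norm_num) h; subst this; simp
  rcases hp.dvd_mul.1 h with h | h
  · have := key (by norm_num) h; subst this; simp
  rcases hp.dvd_mul.1 h with h | h
  · have := key1 (by norm_num) h; subst this; simp
  rcases hp.dvd_mul.1 h with h | h
  · have := key1 (by norm_num) h; subst this; simp
  rcases hp.dvd_mul.1 h with h | h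
  · have := key1 (by norm_num) h; subst this; simp
  rcases hp.dvd_mul.1 h with h | h
  · have := key1 (by norm_num) h; subst this; simp
  rcases hp.dvd_mul.1 h with h | h
  · have := key1 (by norm_num) h; subst this; simp
  rcases hp.dvd_mul.1 h with h | h
  · have := key1 (by norm_num) h; subst this; simp
  rcases hp.dvd_mul.1 h with h | h
  · have := key1 (by norm_num) h; subst this; simp
  rcases hp.dvd_mul.1 h with h | h
  · have := key1 (by norm_num) h; subst this; simp
  · have := key1 (by norm_num) h; subst this; simp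

theorem cond_all {p : ℕ} (hp : p.Prime) (hp59 : p ≠ 59) :
    ∀ i, 1 ≤ i → p ^ i ∣ NM → ¬ 59 ∣ p ^ i - 1 := by
  by_cases hpN : p ∣ NM
  · have h1 := prime_list hp hpN
    simp only [List.mem_cons, List.not_mem_nil, or_false] at h1
    rcases h1 with rfl | rfl | rfl | rfl | rfl | rfl | rfl | rfl | rfl | rfl | rfl | rfl | rfl | rfl | rfl
    · exact cond_of_chk (m := 46) hp (by norm_num) (by decide +kernel)
    · exact cond_of_chk (m := 20) hp (by norm_num) (by decide +kernel)
    · exact cond_of_chk (m := 9) hp (by norm_num) (by decide +kernel)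
    · exact cond_of_chk (m := 6) hp (by norm_num) (by decide +kernel)
    · exact cond_of_chk (m := 2) hp (by norm_num) (by decide +kernel)
    · exact cond_of_chk (m := 3) hp (by norm_num) (by decide +kernel)
    · exact cond_of_chk (m := 1) hp (by norm_num) (by decide +kernel)
    · exact cond_of_chk (m := 1) hp (by norm_num) (by decide +kernel)
    · exact cond_of_chk (m := 1) hp (by norm_num) (by decide +kernel)
    · exact cond_of_chk (m := 1) hp (by norm_num) (by decide +kernel)
    · exact cond_of_chk (m := 1) hp (by norm_num) (by decide +kernel)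
    · exact cond_of_chk (m := 1) hp (by norm_num) (by decide +kernel)
    · exact cond_of_chk (m := 1) hp (by norm_num) (by decide +kernel)
    · exact absurd rfl hp59
    · exact cond_of_chk (m := 1) hp (by norm_num) (by decide +kernel)
  · intro i hi hd
    exact absurd ((dvd_pow_self p (by omega)).trans hd) hpN

theorem dvd_of_comm {G : Type u} [Group G] {x y : G} (h : x * y = y * x) :
    orderOf x ∣ Nat.card (centralizer ({y} : Set G)) :=
  Subgroup.orderOf_dvd_natCard _ (mem_centralizer_singleton_iff.2 h)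

/-- **An element of order 59 centralizes the `59'`-subgroups which it normalizes.** -/
theorem MHyp.triv {G : Type u} [Group G] [Finite G] (B : MHyp G) {K : Subgroup G} {x : G} (hx : orderOf x = 59)
    (hxK : x ∈ normalizer (K : Set G)) (h59 : ¬ 59 ∣ Nat.card K) : ∀ a ∈ K, x * a = a * x := by
  classical
  set H := normalizer (K : Set G) with hH
  have hKH : K ≤ H := le_normalizer
  set K' : Subgroup H := K.subgroupOf H with hK'
  have hn : K'.Normal := normal_in_normalizer
  have hcK : Nat.card K' = Nat.card K := Nat.card_congr (subgroupOfEquivOfLe hKH).toEquiv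
  have h59' : ¬ 59 ∣ Nat.card K' := by rwa [hcK]
  set w : H := ⟨x, hxK⟩ with hw
  have hw59 : w ^ 59 = 1 := Subtype.ext (by
    change x ^ 59 = 1
    rw [← hx, pow_orderOf_eq_one])
  have hKN : Nat.card K' ∣ NM := by
    rw [hcK, ← B.card]
    exact card_subgroup_dvd_card K
  have hall : Nat.card K' ∣ Nat.card (K' ⊓ centralizer ({w} : Set H) : Subgroup H) := by
    rw [Nat.dvd_iff_prime_pow_dvd_dvd]
    intro p k hp hk
    rcases Nat.eq_zero_or_pos k with rfl | hk0
    · rw [pow_zero]; exact one_dvd _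
    have hpK : p ∣ Nat.card K' := (dvd_pow_self p hk0.ne').trans hk
    have hp59 : p ≠ 59 := by
      rintro rfl
      exact h59' hpK
    exact Cfsg.Agent.H995.CopEngine.pow_dvd_cent p59 K' h59' hw59 hp hp59 hk (cond_mono (cond_all hp hp59) hKN)
  have heq : K' ⊓ centralizer ({w} : Set H) = K' := by
    apply eq_of_le_of_card_ge inf_le_left
    exact Nat.le_of_dvd Nat.card_pos hall
  intro a ha
  have h1 : (⟨a, hKH ha⟩ : H) ∈ K' := mem_subgroupOf.2 ha
  rw [← heq] at h1
  exact (congrArg Subtype.val (mem_centralizer_singleton_iff.1 h1.2)).symm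

/-- ... and they have odd order -/
theorem MHyp.odd {G : Type u} [Group G] [Finite G] (B : MHyp G) {K : Subgroup G} {x : G} (hx : orderOf x = 59)
    (hxK : x ∈ normalizer (K : Set G)) (h59 : ¬ 59 ∣ Nat.card K) : ¬ 2 ∣ Nat.card K := by
  intro h2
  have : Fact (Nat.Prime 2) := ⟨Nat.prime_two⟩
  obtain ⟨t, ht⟩ := exists_prime_orderOf_dvd_card' 2 h2
  have h3 := B.triv hx hxK h59 (t : G) t.2
  refine B.inv (t : G) (by rw [Subgroup.orderOf_coe, ht]) ?_
  have h4 := dvd_of_comm h3
  rwa [hx] at h4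

/-- the elements commuting with an element of order 59 have odd order -/
theorem MHyp.no_two {G : Type u} [Group G] [Finite G] (B : MHyp G) {x : G} (hx : orderOf x = 59) :
    ¬ 2 ∣ Nat.card (centralizer ({x} : Set G)) := by
  intro h2
  have : Fact (Nat.Prime 2) := ⟨Nat.prime_two⟩
  obtain ⟨t, ht⟩ := exists_prime_orderOf_dvd_card' 2 h2
  refine B.inv (t : G) (by rw [Subgroup.orderOf_coe, ht]) ?_
  have h4 := dvd_of_comm (x := x) (y := (t : G)) (mem_centralizer_singleton_iff.1 t.2).symm
  rwa [hx] at h4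

/-! ### normalizers -/

/-- an element of order prime to 58 which normalizes a group of order 59 centralizes it -/
theorem comm_of_normalizer {G : Type u} [Group G] [Finite G] {x g : G} (hx : orderOf x = 59)
    (hg : g ∈ normalizer (zpowers x : Set G)) (hc : Nat.Coprime (orderOf g) 58) : g * x = x * g := by
  have h1 := relIndex_centralizer_dvd p59 (zpowers x) (by rw [Nat.card_zpowers, hx])
  have hle : centralizer (zpowers x : Set G) ≤ normalizer (zpowers x : Set G) := centralizer_le_normalizer _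
  set N := normalizer (zpowers x : Set G) with hN
  set C := (centralizer (zpowers x : Set G)).subgroupOf N with hC
  have hCn : C.Normal := by
    rw [hC, hN, ← Subgroup.normalizerMonoidHom_ker]
    infer_instance
  have h2 : ((⟨g, hg⟩ : N) : N ⧸ C) = 1 := by
    rw [← orderOf_eq_one_iff]
    have h3 : orderOf ((⟨g, hg⟩ : N) : N ⧸ C) ∣ orderOf g := by
      apply orderOf_dvd_of_pow_eq_one
      rw [← QuotientGroup.mk_pow]
      have h4 : (⟨g, hg⟩ : N) ^ orderOf g = 1 := Subtype.ext (pow_orderOf_eq_one g)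
      rw [h4, QuotientGroup.mk_one]
    have h4 : orderOf ((⟨g, hg⟩ : N) : N ⧸ C) ∣ 58 := by
      exact (_root_.orderOf_dvd_natCard _).trans h1
    exact Nat.dvd_one.1 (hc ▸ Nat.dvd_gcd h3 h4)
  have h5 : (⟨g, hg⟩ : N) ∈ C := (QuotientGroup.eq_one_iff _).1 h2
  have h6 : g ∈ centralizer (zpowers x : Set G) := mem_subgroupOf.1 h5
  exact (mem_centralizer_iff.1 h6 x (mem_zpowers x)).symm

/-- no transposition normalizes a group of order 59 -/
theorem no_tr {G : Type u} [Group G] [Finite G] (B : MHyp G) {D : Set G} (h1 : ∀ d ∈ D, ∀ g : G, g * d * g⁻¹ ∈ D)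
    (h2 : ∀ d ∈ D, orderOf d = 2) (h3 : ∀ d ∈ D, ∀ e ∈ D, orderOf (d * e) ≤ 6) {x d : G} (hx : orderOf x = 59)
    (hd : d ∈ D) (hdx : d ∈ normalizer (zpowers x : Set G)) : False := by
  have hdd : d * d = 1 := by
    rw [← pow_two, ← h2 d hd, pow_orderOf_eq_one]
  have hmem : d * (x * d * x⁻¹) ∈ zpowers x := by
    have h4 : d * x * d⁻¹ ∈ zpowers x := (mem_normalizer_iff.1 hdx x).1 (mem_zpowers x)
    have h5 : d * (x * d * x⁻¹) = (d * x * d⁻¹) * x⁻¹ := by
      rw [inv_eq_of_mul_eq_one_left hdd]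
      group
    rw [h5]
    exact mul_mem h4 (inv_mem (mem_zpowers x))
  have h6 := h3 d hd _ (h1 d hd x)
  have h7 : orderOf (d * (x * d * x⁻¹)) ∣ 59 := by
    rw [← hx, ← Nat.card_zpowers x]
    exact Subgroup.orderOf_dvd_natCard _ hmem
  rcases (Nat.dvd_prime p59).1 h7 with h8 | h8
  · rw [orderOf_eq_one_iff] at h8
    have h9 : x * d * x⁻¹ = d := by
      calc x * d * x⁻¹ = d⁻¹ * (d * (x * d * x⁻¹)) := by group
        _ = d⁻¹ := by rw [h8, mul_one]
        _ = d := inv_eq_of_mul_eq_one_left hdd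
    refine B.inv d (h2 d hd) ?_
    have h11 := dvd_of_comm (mul_inv_eq_iff_eq_mul.1 h9)
    rwa [hx] at h11
  · omega

/-- `X` normalizes the image of a normal subgroup of `X` -/
theorem le_normalizer_map {G : Type u} [Group G] {X : Subgroup G} {K : Subgroup X} (hK : K.Normal) :
    X ≤ normalizer (K.map X.subtype : Set G) := by
  intro g hg
  rw [mem_normalizer_iff]
  intro t
  constructor
  · rintro ⟨b, hb, rfl⟩
    exact ⟨⟨g, hg⟩ * b * ⟨g, hg⟩⁻¹, hK.conj_mem b hb _, rfl⟩
  · rintro ⟨b, hb, hbt⟩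
    refine ⟨⟨g, hg⟩⁻¹ * b * ⟨g, hg⟩, ?_, ?_⟩
    · have h3 := hK.conj_mem b hb (⟨g, hg⟩⁻¹)
      rwa [inv_inv] at h3
    · change g⁻¹ * (b : G) * g = t
      rw [show (b : G) = g * t * g⁻¹ from hbt]
      group

/-- the step from `P K` to `P` -/
theorem le_normalizer_of {G : Type u} [Group G] [Finite G] (B : MHyp G) {X : Subgroup G} {x : G} (hx : orderOf x = 59)
    (hxX : x ∈ X) {K : Subgroup X} (hK : K.Normal) (h59 : ¬ 59 ∣ Nat.card K)
    (hP : ∀ P : Sylow 59 X, ((P : Subgroup X) ⊔ K).Normal) :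
    X ≤ normalizer (zpowers x : Set G) := by
  have : Fact (Nat.Prime 59) := ⟨p59⟩
  set x' : X := ⟨x, hxX⟩ with hx'
  have hxo : orderOf x' = 59 := by rw [hx', Subgroup.orderOf_mk, hx]
  have hXN : Nat.card X ∣ NM := B.card ▸ card_subgroup_dvd_card X
  have hidx : ¬ 59 ∣ (zpowers x').index := by
    intro h1
    apply sq59
    refine dvd_trans ?_ hXN
    rw [← (zpowers x').card_mul_index, Nat.card_zpowers, hxo, pow_two]
    exact Nat.mul_dvd_mul_left 59 h1
  have hpg : IsPGroup 59 (zpowers x') := IsPGroup.of_card (n := 1) (by rw [Nat.card_zpowers, hxo, pow_one])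
  let P : Sylow 59 X := hpg.toSylow hidx
  have hPx : (P : Subgroup X) = zpowers x' := rfl
  have hn := hP P
  rw [hPx] at hn
  -- `x` centralizes `K`
  have hcK : ∀ a ∈ K, x' * a = a * x' := by
    intro a ha
    have h1 := B.triv (K := K.map X.subtype) hx (le_normalizer_map hK hxX)
      (by rwa [card_map_of_injective X.subtype_injective]) (a : G) ⟨a, ha, rfl⟩
    exact Subtype.ext h1
  intro g hg
  have key : ∀ g : X, g * x' * g⁻¹ ∈ zpowers x' := by
    intro g
    have h1 : g * x' * g⁻¹ ∈ zpowers x' ⊔ K := hn.conj_mem x' ((le_sup_left : zpowers x' ≤ _) (mem_zpowers x')) g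
    rw [Subgroup.mem_sup_of_normal_right] at h1
    obtain ⟨a, ha, b, hb, hab⟩ := h1
    obtain ⟨k, hk⟩ := ha
    have hcab : Commute a b := by
      rw [← hk]
      exact (show Commute x' b from hcK b hb).zpow_left k
    have h2 : (a * b) ^ 59 = 1 := by
      rw [hab, conj_pow, ← hxo, pow_orderOf_eq_one, mul_one, mul_inv_cancel]
    have h3 : a ^ 59 = 1 := by
      rw [← hk]
      change (x' ^ k) ^ 59 = 1
      rw [← zpow_natCast, zpow_comm, zpow_natCast, ← hxo, pow_orderOf_eq_one, one_zpow]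
    rw [hcab.mul_pow, h3, one_mul] at h2
    have h4 : orderOf b ∣ 59 := orderOf_dvd_of_pow_eq_one h2
    have h5 : orderOf b ∣ Nat.card K := Subgroup.orderOf_dvd_natCard K hb
    have h6 : b = 1 := by
      rcases (Nat.dvd_prime p59).1 h4 with h7 | h7
      · exact orderOf_eq_one_iff.1 h7
      · rw [h7] at h5
        exact absurd h5 h59
    rw [← hab, h6, mul_one]
    exact ⟨k, hk⟩
  rw [mem_normalizer_iff]
  have hconj : ∀ (g : X) (t : G), t ∈ zpowers x → (g : G) * t * (g : G)⁻¹ ∈ zpowers x := by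
    rintro g _ ⟨k, rfl⟩
    change (g : G) * x ^ k * (g : G)⁻¹ ∈ zpowers x
    obtain ⟨j, hj⟩ := key g
    have hj' : x ^ j = (g : G) * x * (g : G)⁻¹ := congrArg Subtype.val hj
    rw [← conj_zpow, ← hj', ← zpow_mul]
    exact ⟨j * k, rfl⟩
  intro t
  constructor
  · exact hconj ⟨g, hg⟩ t
  · intro h1
    have h2 := hconj ⟨g, hg⟩⁻¹ _ h1
    have h3 : ((⟨g, hg⟩⁻¹ : X) : G) * (g * t * g⁻¹) * ((⟨g, hg⟩⁻¹ : X) : G)⁻¹ = t := by
      change g⁻¹ * (g * t * g⁻¹) * g⁻¹⁻¹ = t
      group
    rwa [h3] at h2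

/-! ### the nonabelian simple sections of order divisible by 59 -/

/-- the factorization of `|M|` -/
def lM : List (ℕ × ℕ) := [(2, 46), (3, 20), (5, 9), (7, 6), (11, 2), (13, 3), (17, 1), (19, 1), (23, 1), (29, 1), (31, 1),
  (41, 1), (47, 1), (59, 1), (71, 1)]

theorem lM_valid : valid lM NM = true := by decide +kernel

/-- the check -/
def isL (g : Grp) : Bool :=
  match g with
  | .psl n q => Nat.beq n 2 && Nat.beq q 59
  | _ => false

theorem chk : ((cands lM NM).all fun g => !Nat.beq (ordN g % 59) 0 || Nat.beq (ordN g) NM || isL g) = true := by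
  decide +kernel

theorem real_of {S : Type u} [Group S] [Finite S] [IsSimpleGroup S] (hK : AllKnown.{u})
    (hna : ¬ ∀ a b : S, a * b = b * a) (hd : Nat.card S ∣ NM) (hr : 59 ∣ Nat.card S) (hne : Nat.card S ≠ NM) :
    Real (.psl 2 59) S := by
  obtain ⟨g, h1, h2, h3⟩ := exists_good table (hK S) hna lM_valid hd
  have h4 := (List.all_eq_true.1 chk) g h1
  rw [Bool.or_eq_true, Bool.or_eq_true] at h4
  rcases h4 with (h4 | h4) | h4
  · rw [h3] at hr
    rw [Nat.mod_eq_zero_of_dvd hr] at h4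
    simp at h4
  · exact absurd (h3.trans (Nat.eq_of_beq_eq_true h4)) hne
  · cases g with
    | psl n q =>
      simp only [isL, Bool.and_eq_true] at h4
      obtain ⟨h5, h6⟩ := h4
      rw [Nat.eq_of_beq_eq_true h5, Nat.eq_of_beq_eq_true h6] at h2
      exact h2
    | _ => simp [isL] at h4

/-- **The lifted data.** -/
theorem lift {X : Type u} [Group X] [Finite X] {K : Subgroup X} [K.Normal] (hodd : ¬ 2 ∣ Nat.card K)
    {S : Subgroup (X ⧸ K)} (hS : Real (.psl 2 59) S) :
    ∃ t w t' g : X, orderOf t = 2 ∧ 6 < orderOf (t * (g * t * g⁻¹)) ∧ orderOf w = 5 ∧ w * t = t * w ∧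
      orderOf t' = 2 ∧ t' ≠ t ∧ t' * t = t * t' := by
  obtain ⟨s, g, w, s', h1, h2, h3, h4, h5, h6, h7⟩ := LTwo.data hS
  obtain ⟨t, ht, hts⟩ := Cfsg.Agent.H190.Exc.exists_lift_order K Nat.prime_two hodd (s : X ⧸ K)
    (by rw [Subgroup.orderOf_coe, h1])
  obtain ⟨g', hg'⟩ := QuotientGroup.mk'_surjective K (g : X ⧸ K)
  have hc1 : Commute (w : X ⧸ K) (QuotientGroup.mk' K t) := by
    rw [hts]
    exact congrArg Subtype.val h4
  obtain ⟨w1, hw1, hw1'⟩ := Cfsg.Agent.H190.Exc.exists_lift_comm K Nat.prime_two hodd ht hc1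
  have hc2 : Commute (s' : X ⧸ K) (QuotientGroup.mk' K t) := by
    rw [hts]
    exact congrArg Subtype.val h7
  obtain ⟨u1, hu1, hu1'⟩ := Cfsg.Agent.H190.Exc.exists_lift_comm K Nat.prime_two hodd ht hc2
  -- an element of order 5
  have h8 : 5 ∣ orderOf w1 := by
    have h9 := orderOf_map_dvd (QuotientGroup.mk' K) w1
    rwa [hw1', Subgroup.orderOf_coe, h3] at h9
  have h10 : orderOf (w1 ^ (orderOf w1 / 5)) = 5 :=
    orderOf_pow_orderOf_div (orderOf_pos w1).ne' h8
  -- an involution
  have h11 : u1 ^ 2 ∈ K := by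
    rw [← QuotientGroup.eq_one_iff, QuotientGroup.mk_pow]
    have h12 : (QuotientGroup.mk' K u1) ^ 2 = 1 := by
      rw [hu1', ← h5, ← Subgroup.orderOf_coe, pow_orderOf_eq_one]
    exact h12
  have h13 : (u1 ^ Nat.card K) ^ 2 = 1 := by
    rw [← pow_mul, mul_comm, pow_mul]
    have := pow_card_eq_one' (G := ↥K) (x := ⟨u1 ^ 2, h11⟩)
    exact congrArg Subtype.val this
  have h14 : QuotientGroup.mk' K (u1 ^ Nat.card K) = (s' : X ⧸ K) := by
    obtain ⟨c, hc⟩ : ∃ c, Nat.card K = 2 * c + 1 := by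
      refine ⟨Nat.card K / 2, ?_⟩
      omega
    rw [map_pow, hu1', hc, pow_succ, pow_mul]
    have h12 : (s' : X ⧸ K) ^ 2 = 1 := by
      rw [← h5, ← Subgroup.orderOf_coe, pow_orderOf_eq_one]
    rw [h12, one_pow, one_mul]
  refine ⟨t, w1 ^ (orderOf w1 / 5), u1 ^ Nat.card K, g', ht, ?_, h10, ?_, ?_, ?_, ?_⟩
  · have h15 := orderOf_map_dvd (QuotientGroup.mk' K) (t * (g' * t * g'⁻¹))
    rw [map_mul, map_mul, map_mul, map_inv, hts, hg'] at h15
    have h16 : (s : X ⧸ K) * ((g : X ⧸ K) * s * (g : X ⧸ K)⁻¹) = ((s * (g * s * g⁻¹) : S) : X ⧸ K) := rfl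
    rw [h16, Subgroup.orderOf_coe] at h15
    exact lt_of_lt_of_le h2 (Nat.le_of_dvd (orderOf_pos _) h15)
  · exact (hw1.pow_left _).eq
  · refine orderOf_eq_prime (p := 2) h13 fun h => ?_
    rw [h, map_one] at h14
    rw [← Subgroup.orderOf_coe, ← h14, orderOf_one] at h5
    norm_num at h5
  · intro h
    apply h6
    apply Subtype.ext
    rw [← h14, h, hts]
  · exact (hu1.pow_left _).eq

/-- `centralizer {y} ≤ normalizer ⟨x⟩` for all commuting `y` of order `q`, `x` of order 59 -/
def Star (G : Type u) [Group G] (q : ℕ) : Prop :=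
  ∀ x y : G, orderOf x = 59 → orderOf y = q → x * y = y * x → centralizer ({y} : Set G) ≤ normalizer (zpowers x : Set G)

theorem star_of_solIdx {G : Type u} [Group G] [Finite G] (B : MHyp G) {q : ℕ}
    (h : ∀ y : G, orderOf y = q → SolIdx 59 (centralizer ({y} : Set G))) : Star G q := by
  intro x y hx hy hxy
  have hxm : x ∈ centralizer ({y} : Set G) := mem_centralizer_singleton_iff.2 hxy
  have h1 : 59 ∣ Nat.card (centralizer ({y} : Set G)) := by
    rw [← hx]
    exact Subgroup.orderOf_dvd_natCard _ hxm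
  have h2 : ¬ 59 ^ 2 ∣ Nat.card (centralizer ({y} : Set G)) := fun h3 =>
    sq59 (B.card ▸ h3.trans (card_subgroup_dvd_card _))
  obtain ⟨K, hK, h59, hP⟩ := normal_of_solIdx p59 h1 h2 (h y hy)
  exact le_normalizer_of B hx hxm hK h59 hP

/-- the centre of a simple group of order `NM` -/
theorem centralizer_ne_top {G : Type u} [Group G] [Finite G] [IsSimpleGroup G] (hG : Nat.card G = NM) {y : G}
    (hy : y ≠ 1) : centralizer ({y} : Set G) ≠ ⊤ := by
  intro h
  have h1 : y ∈ center G := mem_center_iff.2 fun g => by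
    have h2 : g ∈ centralizer ({y} : Set G) := by rw [h]; trivial
    exact mem_centralizer_singleton_iff.1 h2
  rcases (inferInstance : (center G).Normal).eq_bot_or_eq_top with h2 | h2
  · rw [h2, mem_bot] at h1
    exact hy h1
  · have h3 : ∀ a b : G, a * b = b * a := fun a b => by
      have : b ∈ center G := by rw [h2]; trivial
      exact mem_center_iff.1 this a
    let : CommGroup G := { (inferInstance : Group G) with mul_comm := h3 }
    have h4 : IsSimpleGroup G := inferInstance
    have h5 : (Nat.card G).Prime := IsSimpleGroup.prime_card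
    rw [hG] at h5
    have h6 : (2 : ℕ) ∣ NM := by norm_num
    have h7 := (Nat.prime_dvd_prime_iff_eq Nat.prime_two h5).1 h6
    norm_num at h7

/-- **The primes at least 7.** -/
theorem star_big {G : Type u} [Group G] [Finite G] (B : MHyp G) (hK : AllKnown.{u}) {q : ℕ} (hq : q.Prime) (h7 : 7 ≤ q)
    (hqN : q ∣ NM) : Star G q := by
  intro x y hx hy hxy
  have : IsSimpleGroup G := B.simple
  set X := centralizer ({y} : Set G) with hXdef
  have hxm : x ∈ X := mem_centralizer_singleton_iff.2 hxy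
  have h1 : 59 ∣ Nat.card X := by
    rw [← hx]
    exact Subgroup.orderOf_dvd_natCard _ hxm
  have hXN : Nat.card X ∣ NM := B.card ▸ card_subgroup_dvd_card X
  have h2 : ¬ 59 ^ 2 ∣ Nat.card X := fun h3 => sq59 (h3.trans hXN)
  have hXtop : X ≠ ⊤ := centralizer_ne_top B.card (by
    rintro rfl
    rw [orderOf_one] at hy
    omega)
  obtain ⟨K, hKn, h59, hP | ⟨S, hS, hna, hrS, -⟩⟩ := dich p59 h1 h2
  · exact le_normalizer_of B hx hxm hKn h59 hP
  · exfalso
    have hodd : ¬ 2 ∣ Nat.card K := by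
      have h3 := B.odd (K := K.map X.subtype) hx (le_normalizer_map hKn hxm)
        (by rwa [card_map_of_injective X.subtype_injective])
      rwa [card_map_of_injective X.subtype_injective] at h3
    have hSX : Nat.card S ∣ Nat.card X :=
      (Subgroup.card_subgroup_dvd_card S).trans (Subgroup.card_quotient_dvd_card K)
    have hne : Nat.card S ≠ NM := by
      intro h
      apply hXtop
      apply Subgroup.eq_top_of_card_eq
      apply Nat.dvd_antisymm (Subgroup.card_subgroup_dvd_card X)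
      rw [B.card, ← h]
      exact hSX
    have hR := real_of hK hna (hSX.trans hXN) hrS hne
    obtain ⟨t, w, t', g, h3, h4, h5, h6, h8, h9, h10⟩ := lift hodd hR
    have com : ∀ a : X, (a : G) * y = y * a := fun a => mem_centralizer_singleton_iff.1 a.2
    have hbig : Big (t : G) := by
      refine ⟨by rw [Subgroup.orderOf_coe, h3], (g : G), ?_⟩
      have h11 : ((t * (g * t * g⁻¹) : X) : G) = (t : G) * ((g : G) * t * (g : G)⁻¹) := rfl
      rw [← h11, Subgroup.orderOf_coe]
      exact h4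
    rcases h7.eq_or_lt with h7 | h7
    · subst h7
      refine h9 (Subtype.ext ?_)
      exact B.seven y t t' hy hbig (com t) h1 (by rw [Subgroup.orderOf_coe, h8]) (congrArg Subtype.val h10) (com t')
    · exact B.big q hq h7 hqN t y w hbig hy (by rw [Subgroup.orderOf_coe, h5]) (com t).symm (congrArg Subtype.val h6)
        (com w)

theorem not_dvd_of_star {G : Type u} [Group G] [Finite G] (B : MHyp G) {q : ℕ} (hq : q.Prime) (h58 : Nat.Coprime q 58)
    (hqd : q ∣ NT) (hs : Star G q) {x : G} (hx : orderOf x = 59) :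
    ¬ q ∣ Nat.card (centralizer ({x} : Set G)) := by
  intro hqc
  have : Fact q.Prime := ⟨hq⟩
  obtain ⟨D, ⟨d, hd⟩, h1, h2, h3, h4⟩ := B.tr
  obtain ⟨y, hy⟩ := exists_prime_orderOf_dvd_card' q hqc
  have hyx : x * (y : G) = y * x := (mem_centralizer_singleton_iff.1 y.2).symm
  have hyo : orderOf (y : G) = q := by rw [Subgroup.orderOf_coe, hy]
  have cop : ∀ {S : Subgroup G} (_ : IsPGroup q S) {g : G} (_ : g ∈ S), Nat.Coprime (orderOf g) 58 := by
    intro S hS g hg
    obtain ⟨k, hk⟩ := hS ⟨g, hg⟩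
    have h5 : g ^ q ^ k = 1 := congrArg Subtype.val hk
    exact Nat.Coprime.coprime_dvd_left (orderOf_dvd_of_pow_eq_one h5) (Nat.Coprime.pow_left k h58)
  -- a Sylow subgroup containing `y`
  have hyp : IsPGroup q (zpowers (y : G)) := IsPGroup.of_card (n := 1) (by rw [Nat.card_zpowers, hyo, pow_one])
  obtain ⟨S, hS⟩ := hyp.exists_le_sylow
  have hyS : (y : G) ∈ (S : Subgroup G) := hS (mem_zpowers _)
  -- a central element of order `q`
  obtain ⟨z, hzS, hzc, hzo⟩ : ∃ z ∈ (S : Subgroup G), (∀ s ∈ (S : Subgroup G), z * s = s * z) ∧ orderOf z = q := by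
    have hne : Nontrivial (S : Subgroup G) := ⟨⟨⟨y, hyS⟩, 1, fun h => by
      have h5 : (y : G) = 1 := congrArg Subtype.val h
      rw [h5, orderOf_one] at hyo
      exact hq.one_lt.ne hyo⟩⟩
    have h5 : Nontrivial (center (S : Subgroup G)) := S.2.center_nontrivial
    obtain ⟨k, hk⟩ := IsPGroup.iff_card.1 (S.2.to_subgroup (center (S : Subgroup G)))
    have h6 : q ∣ Nat.card (center (S : Subgroup G)) := by
      rw [hk]
      rcases Nat.eq_zero_or_pos k with h7 | h7
      · rw [h7, pow_zero] at hk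
        have := Finite.one_lt_card (α := center (S : Subgroup G))
        omega
      · exact dvd_pow_self q h7.ne'
    obtain ⟨z, hz⟩ := exists_prime_orderOf_dvd_card' q h6
    refine ⟨((z : (S : Subgroup G)) : G), (z : (S : Subgroup G)).2, fun s hs => ?_, ?_⟩
    · exact (congrArg Subtype.val (mem_center_iff.1 z.2 ⟨s, hs⟩)).symm
    · rw [Subgroup.orderOf_coe, Subgroup.orderOf_coe, hz]
  have hzx : z * x = x * z := by
    refine comm_of_normalizer hx (hs x y hx hyo hyx ?_) (cop S.2 hzS)
    exact mem_centralizer_singleton_iff.2 (hzc y hyS)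
  have hzN := hs x z hx hzo hzx.symm
  have hSx : ∀ s ∈ (S : Subgroup G), s * x = x * s := by
    intro s hs'
    refine comm_of_normalizer hx (hzN ?_) (cop S.2 hs')
    exact mem_centralizer_singleton_iff.2 (hzc s hs').symm
  -- an element of order `q` commuting with a transposition
  obtain ⟨w, hw⟩ := exists_prime_orderOf_dvd_card' q (show q ∣ Nat.card (centralizer ({d} : Set G)) by rwa [h4 d hd])
  have hwo : orderOf (w : G) = q := by rw [Subgroup.orderOf_coe, hw]
  have hwp : IsPGroup q (zpowers (w : G)) := IsPGroup.of_card (n := 1) (by rw [Nat.card_zpowers, hwo, pow_one])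
  obtain ⟨T, hT⟩ := hwp.exists_le_sylow
  obtain ⟨g, hg⟩ := MulAction.exists_smul_eq G T S
  have hgw : g * w * g⁻¹ ∈ (S : Subgroup G) := by
    rw [← hg]
    have h5 : g • ((w : G)) = g • (w : G) := rfl
    exact ⟨(w : G), hT (mem_zpowers _), rfl⟩
  have hgo : orderOf (g * w * g⁻¹) = q := by
    rw [← hwo]
    exact orderOf_injective (MulAut.conj g).toMonoidHom (MulAut.conj g).injective (w : G)
  have hwN := hs x (g * w * g⁻¹) hx hgo (hSx _ hgw).symm
  refine no_tr B h1 h2 h3 hx (h1 d hd g) (hwN ?_)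
  rw [mem_centralizer_singleton_iff]
  have h5 : d * (w : G) = w * d := (mem_centralizer_singleton_iff.1 w.2).symm
  calc g * d * g⁻¹ * (g * w * g⁻¹) = g * (d * w) * g⁻¹ := by group
    _ = g * (w * d) * g⁻¹ := by rw [h5]
    _ = g * w * g⁻¹ * (g * d * g⁻¹) := by group

end Cfsg.Agent.H568.SC.Abs
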